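import Groth.Agent.RatCurveBlowLib.Fibre
import Groth.Agent.S1582
import Groth.Agent.S19463
import Groth.Agent.ProdDim.Basic
import Groth.Agent.DimFormulaLib.Field
import Groth.Agent.H6CurveCorr
import Groth.Agent.LeffEtLib.Conn

/-!
# Bend and break with a fixed point
-/

set_option autoImplicit false
set_option backward.isDefEq.respectTransparency false
set_option linter.style.haveILetI false
set_option maxHeartbeats 1000000

universe u

open CategoryTheory CategoryTheory.Limits AlgebraicGeometry TopologicalSpace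
open Groth.Agent.SurfPtBlow

noncomputable section

namespace Groth.Agent.RatCurveBlowLib

variable {k : Type u} [Field k]

/-- The range of the section of a product given by a point of the first factor. -/
theorem range_section {A B : Scheme.{u}} (f : A ⟶ Spec (CommRingCat.of k)) (g : B ⟶ Spec (CommRingCat.of k))
    (c : Spec (CommRingCat.of k) ⟶ A) (hc : c ≫ f = 𝟙 _) :
    Set.range (pullback.lift (g ≫ c) (𝟙 B) (by rw [Category.assoc, hc, Category.comp_id, Category.id_comp]) :
      B ⟶ pullback f g).base = (pullback.fst f g).base ⁻¹' Set.range c.base := by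
  set s := (pullback.lift (g ≫ c) (𝟙 B) (by rw [Category.assoc, hc, Category.comp_id, Category.id_comp]) :
      B ⟶ pullback f g) with hs
  have hfst : s ≫ pullback.fst f g = g ≫ c := pullback.lift_fst _ _ _
  have hsnd : s ≫ pullback.snd f g = 𝟙 B := pullback.lift_snd _ _ _
  have hsq : IsPullback s g (pullback.fst f g) c := by
    refine IsPullback.of_right ?_ hfst (IsPullback.of_hasPullback f g).flip
    rw [hsnd, hc]
    exact IsPullback.of_horiz_isIso ⟨by simp⟩
  refine Set.Subset.antisymm ?_ ?_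
  · rintro _ ⟨b, rfl⟩
    exact ⟨g b, by
      rw [← Scheme.Hom.comp_apply, ← Scheme.Hom.comp_apply, hfst]⟩
  · rintro x ⟨t, ht⟩
    obtain ⟨u, hu, -⟩ := Scheme.Pullback.exists_preimage_pullback (f := pullback.fst f g) (g := c) x t ht.symm
    refine ⟨hsq.isoPullback.inv u, ?_⟩
    rw [← Scheme.Hom.comp_apply, hsq.isoPullback_inv_fst, hu]

variable [IsAlgClosed k]

local notation "ℙ¹" => CohB1.ProjSpace 1 k

set_option maxHeartbeats 4000000 in
/-- **Bend and break.** A family of maps of a pointed complete curve into a proper scheme, fixing the image of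
the point and not constant in the parameter, yields a rational curve through that image. -/
theorem exists_line_through {C B X : Scheme.{u}} (qC : C ⟶ Spec (CommRingCat.of k))
    (qB : B ⟶ Spec (CommRingCat.of k)) (qX : X ⟶ Spec (CommRingCat.of k))
    [IsIntegral C] [IsProper qC] [Smooth qC] (hC : topologicalKrullDim C = 1)
    [IsIntegral B] [IsSeparated qB] [LocallyOfFiniteType qB] [QuasiCompact qB] (hB : topologicalKrullDim B = 1)
    [IsProper qX] (F : pullback qC qB ⟶ X) (hF : F ≫ qX = pullback.fst qC qB ≫ qC)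
    (c : Spec (CommRingCat.of k) ⟶ C) (hc : c ≫ qC = 𝟙 _)
    (p : Spec (CommRingCat.of k) ⟶ X) (hp : p ≫ qX = 𝟙 _)
    (hfix : pullback.lift (qB ≫ c) (𝟙 B) (by rw [Category.assoc, hc, Category.comp_id, Category.id_comp]) ≫ F
      = qB ≫ p)
    (hvar : ¬ ∃ G : C ⟶ X, G ≫ qX = qC ∧ F = pullback.fst qC qB ≫ G) :
    ∃ (g : ℙ¹ ⟶ X) (t : Spec (CommRingCat.of k) ⟶ ℙ¹), g ≫ qX = CohB1.ProjSpace.toSpec 1 k ∧
      t ≫ CohB1.ProjSpace.toSpec 1 k = 𝟙 _ ∧ t ≫ g = p ∧ ¬ ∃ x : X, Set.range g.base ⊆ {x} := by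
  haveI : Subsingleton ↥(Spec (CommRingCat.of k)) := inferInstanceAs (Subsingleton (PrimeSpectrum k))
  set pt : Spec (CommRingCat.of k) := IsLocalRing.closedPoint k with hpt
  set x₀ := c pt with hx₀
  set xp := p pt with hxp
  have hx₀c : IsClosed ({x₀} : Set C) := ((pointEquivClosedPoint qC) ⟨c, hc⟩).2
  have hxpc : IsClosed ({xp} : Set X) := ((pointEquivClosedPoint qX) ⟨p, hp⟩).2
  have hrc : Set.range c.base = {x₀} := Set.eq_singleton_iff_unique_mem.2 ⟨⟨pt, rfl⟩, by
    rintro _ ⟨t, rfl⟩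
    rw [Subsingleton.elim t pt]⟩
  by_cases hline : ∃ g : ℙ¹ ⟶ X, g ≫ qX = CohB1.ProjSpace.toSpec 1 k ∧ xp ∈ Set.range g.base ∧
      ¬ ∃ x : X, Set.range g.base ⊆ {x}
  · obtain ⟨g, hg, ⟨v₀, hv₀⟩, hgn⟩ := hline
    haveI : IsProper (CohB1.ProjSpace.toSpec 1 k) := inferInstance
    haveI : JacobsonSpace ↥(CohB1.ProjSpace 1 k) :=
      LocallyOfFiniteType.jacobsonSpace (CohB1.ProjSpace.toSpec 1 k)
    obtain ⟨v, hv, hvc⟩ := nonempty_inter_closedPoints
      (⟨v₀, hv₀⟩ : (g.base ⁻¹' {xp}).Nonempty) (hxpc.preimage g.continuous).isLocallyClosed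
    refine ⟨g, pointOfClosedPoint _ v hvc, hg, pointOfClosedPoint_comp _ v hvc, ?_, hgn⟩
    refine ext_of_apply_closedPoint_eq qX (by rw [Category.assoc, hg, pointOfClosedPoint_comp]) hp ?_
    rw [Scheme.Hom.comp_apply, pointOfClosedPoint_apply]
    exact hv
  exfalso
  -- the smooth part of the parameter curve and its completion
  haveI : LocallyOfFinitePresentation qB :=
    LocallyOfFinitePresentation.iff_locallyOfFiniteType.mpr inferInstance
  let S : B.Opens := qB.smoothLocus
  have hS : (S : Set B).Nonempty := ⟨genericPoint B, qB.genericPoint_mem_smoothLocus_of_perfectField⟩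
  let qS : S.toScheme ⟶ Spec (CommRingCat.of k) := S.ι ≫ qB
  haveI : Smooth qS := by
    rw [← Scheme.Hom.smoothLocus_eq_top_iff, ← Scheme.Hom.preimage_smoothLocus_eq]
    exact Scheme.Opens.ι_preimage_self S
  haveI : Nonempty ↥S.toScheme := ⟨⟨_, hS.choose_spec⟩⟩
  haveI : IsIntegral S.toScheme := inferInstance
  haveI : IsNoetherian B :=
    { toIsLocallyNoetherian := LocallyOfFiniteType.isLocallyNoetherian qB
      toCompactSpace := QuasiCompact.compactSpace_of_compactSpace qB }
  haveI : QuasiCompact qS := inferInstance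
  have hSd : topologicalKrullDim S.toScheme = 1 := (DimFormulaLib.topologicalKrullDim_opens qB S hS).trans hB
  letI : S.toScheme.Over (Spec (CommRingCat.of k)) := ⟨qS⟩
  haveI : Smooth (S.toScheme ↘ Spec (CommRingCat.of k)) := ‹Smooth qS›
  haveI : IsSeparated (S.toScheme ↘ Spec (CommRingCat.of k)) := inferInstanceAs (IsSeparated (S.ι ≫ qB))
  haveI : LocallyOfFiniteType (S.toScheme ↘ Spec (CommRingCat.of k)) := inferInstanceAs (LocallyOfFiniteType (S.ι ≫ qB))
  haveI : QuasiCompact (S.toScheme ↘ Spec (CommRingCat.of k)) := ‹QuasiCompact qS›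
  obtain ⟨Y, _, j, hj, hjY, hYint, hYsm, hYd, n, iY, hiY, hiYq⟩ := S19463.result k S.toScheme hSd
  haveI := hj
  haveI := hYint
  haveI := hiY
  let qY := Y ↘ Spec (CommRingCat.of k)
  haveI : Smooth qY := hYsm
  haveI : IsProper qY := by rw [show qY = _ from hiYq.symm]; infer_instance
  -- the regular complete surface
  let W := pullback qC qY
  haveI : IsIntegral W := S1582.result k C Y qC qY
  let sW : W ⟶ Spec (CommRingCat.of k) := pullback.fst qC qY ≫ qC
  haveI : Smooth sW := inferInstance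
  haveI : IsProper sW := inferInstance
  haveI : IsNoetherian W :=
    { toIsLocallyNoetherian := LocallyOfFiniteType.isLocallyNoetherian sW
      toCompactSpace := QuasiCompact.compactSpace_of_compactSpace sW }
  have hreg : ∀ w : W, IsRegularLocalRing (W.presheaf.stalk w) := fun w => by
    refine BlowChartLib.regular_stalk_of_smooth sW w ?_
    rw [Subsingleton.elim (sW w) (genericPoint (Spec (CommRingCat.of k)))]
    exact inferInstanceAs (IsRegularLocalRing (Spec (CommRingCat.of k)).functionField)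
  have hdim : topologicalKrullDim W ≤ 2 := by
    rw [ProdDim.topologicalKrullDim_pullback qC qY, hC, hYd]
    rfl
  let O : Y.Opens := j.opensRange
  let U : W.Opens := (pullback.snd qC qY) ⁻¹ᵁ O
  let β : U.toScheme ⟶ B := (pullback.snd qC qY ∣_ O) ≫ j.isoOpensRange.inv ≫ S.ι
  have hjO : j.isoOpensRange.inv ≫ j = O.ι := j.isoOpensRange_inv_comp
  have hβ : (U.ι ≫ pullback.fst qC qY) ≫ qC = β ≫ qB := by
    have h1 : β ≫ qB = (pullback.snd qC qY ∣_ O) ≫ O.ι ≫ qY := by
      simp only [β, Category.assoc]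
      rw [← reassoc_of% hjO, show S.ι ≫ qB = j ≫ qY from hjY.symm]
    rw [h1, morphismRestrict_ι_assoc, Category.assoc, pullback.condition]
  let φ₀ : U.toScheme ⟶ pullback qC qB := pullback.lift (U.ι ≫ pullback.fst qC qY) β hβ
  have hφ₀fst : φ₀ ≫ pullback.fst qC qB = U.ι ≫ pullback.fst qC qY := pullback.lift_fst _ _ _
  let φ : U.toScheme ⟶ X := φ₀ ≫ F
  have hφ : φ ≫ qX = U.ι ≫ sW := by
    simp only [φ, Category.assoc, hF]
    rw [reassoc_of% hφ₀fst]
  -- sections over points of the first factor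
  have hsB : ∀ (a : Spec (CommRingCat.of k) ⟶ C), a ≫ qC = 𝟙 _ → (qB ≫ a) ≫ qC = 𝟙 B ≫ qB :=
    fun a ha => by rw [Category.assoc, ha, Category.comp_id, Category.id_comp]
  have hsY : ∀ (a : Spec (CommRingCat.of k) ⟶ C), a ≫ qC = 𝟙 _ → (qY ≫ a) ≫ qC = 𝟙 Y ≫ qY :=
    fun a ha => by rw [Category.assoc, ha, Category.comp_id, Category.id_comp]
  have hlift : ∀ (a : Spec (CommRingCat.of k) ⟶ C) (ha : a ≫ qC = 𝟙 _),
      ∃ σ : S.toScheme ⟶ U.toScheme, σ ≫ U.ι = j ≫ pullback.lift (qY ≫ a) (𝟙 Y) (hsY a ha) ∧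
        σ ≫ φ₀ = S.ι ≫ pullback.lift (qB ≫ a) (𝟙 B) (hsB a ha) := by
    intro a ha
    have hr : Set.range (j ≫ pullback.lift (qY ≫ a) (𝟙 Y) (hsY a ha)).base ⊆ Set.range U.ι.base := by
      rintro _ ⟨b, rfl⟩
      rw [Scheme.Opens.range_ι]
      show (pullback.snd qC qY) _ ∈ O
      rw [← Scheme.Hom.comp_apply, Category.assoc, pullback.lift_snd, Category.comp_id]
      exact ⟨b, rfl⟩
    let σ := IsOpenImmersion.lift U.ι _ hr
    have hσ : σ ≫ U.ι = j ≫ pullback.lift (qY ≫ a) (𝟙 Y) (hsY a ha) := IsOpenImmersion.lift_fac _ _ _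
    refine ⟨σ, hσ, pullback.hom_ext ?_ ?_⟩
    · rw [Category.assoc, hφ₀fst, reassoc_of% hσ, pullback.lift_fst, Category.assoc, pullback.lift_fst,
        ← Category.assoc, show j ≫ qY = S.ι ≫ qB from hjY, Category.assoc]
    · rw [Category.assoc, Category.assoc, pullback.lift_snd, pullback.lift_snd, Category.comp_id]
      have h1 : σ ≫ (pullback.snd qC qY ∣_ O) = j.isoOpensRange.hom := by
        rw [← cancel_mono O.ι, Category.assoc, morphismRestrict_ι, reassoc_of% hσ, pullback.lift_snd,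
          Category.comp_id, Scheme.Hom.isoOpensRange_hom_ι]
      show σ ≫ (pullback.snd qC qY ∣_ O) ≫ j.isoOpensRange.inv ≫ S.ι = S.ι
      rw [reassoc_of% h1, Iso.hom_inv_id_assoc]
  -- resolve
  have hη : genericPoint W ∈ U := by
    obtain ⟨σ, hσ, -⟩ := hlift c hc
    exact (genericPoint_specializes (U.ι (σ (genericPoint S.toScheme)))).mem_open U.2 (σ (genericPoint S.toScheme)).2
  let zK : Spec W.functionField ⟶ X := U.fromSpecStalkOfMem (genericPoint W) hη ≫ φ
  obtain ⟨W', hint, g, hg, h, hseq, hover, hgen⟩ := exists_ptSeq_extend hreg hdim sW qX zK (by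
    rw [Category.assoc, hφ, Scheme.Opens.fromSpecStalkOfMem_ι_assoc])
  haveI := hint
  haveI := hseq.isNoetherian.2
  have hgen' : genericPoint W' ∈ g ⁻¹ᵁ U := show g (genericPoint W') ∈ U from hg.symm ▸ hη
  have hagree : (g ⁻¹ᵁ U).ι ≫ h = (g ∣_ U) ≫ φ := by
    let τ := (g ⁻¹ᵁ U).fromSpecStalkOfMem (genericPoint W') hgen'
    haveI : IsDominant τ := ⟨fun z => by
      refine closure_mono (Set.singleton_subset_iff.2
        (Set.mem_range_self (f := τ) (IsLocalRing.closedPoint W'.functionField))) (specializes_iff_mem_closure.1 ?_)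
      refine (g ⁻¹ᵁ U).ι.isOpenEmbedding.isInducing.specializes_iff.1 ?_
      rw [← Scheme.Hom.comp_apply, Scheme.Opens.fromSpecStalkOfMem_ι, Scheme.fromSpecStalk_closedPoint]
      exact genericPoint_specializes _⟩
    refine ext_of_isDominant_of_isSeparated qX ?_ τ ?_
    · rw [Category.assoc, Category.assoc, hover, hφ, morphismRestrict_ι_assoc]
    · rw [Scheme.Opens.fromSpecStalkOfMem_ι_assoc, hgen]
      have h1 : τ ≫ (g ∣_ U) = Spec.map (funMap g hg) ≫ U.fromSpecStalkOfMem (genericPoint W) hη := by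
        rw [← cancel_mono U.ι, Category.assoc, morphismRestrict_ι, Scheme.Opens.fromSpecStalkOfMem_ι_assoc,
          Category.assoc, Scheme.Opens.fromSpecStalkOfMem_ι, fromSpecStalk_funMap]
      rw [← Category.assoc τ, h1, Category.assoc]
  have hval : ∀ (y : W') (u : U), g y = U.ι u → h y = φ u := by
    intro y u hyu
    have hy : y ∈ g ⁻¹ᵁ U := show g y ∈ U from hyu.symm ▸ u.2
    have e1 := congrArg (fun m : (g ⁻¹ᵁ U).toScheme ⟶ X => m.base ⟨y, hy⟩) hagree
    simp only [Scheme.Hom.comp_apply] at e1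
    refine e1.trans (congrArg φ.base ?_)
    refine U.ι.isOpenEmbedding.injective ?_
    rw [← Scheme.Hom.comp_apply, morphismRestrict_ι, ← hyu]
    rfl
  haveI : IsDominant g := ⟨fun w => closure_mono (Set.singleton_subset_iff.2 (Set.mem_range_self (genericPoint W')))
    (specializes_iff_mem_closure.1 (hg.symm ▸ genericPoint_specializes w))⟩
  have hgsurj : ∀ w : W, ∃ y : W', g y = w := fun w => by
    have h1 : Dense (Set.range g.base) := g.denseRange
    rw [dense_iff_closure_eq, g.isClosedMap.isClosed_range.closure_eq] at h1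
    exact h1.ge (Set.mem_univ w)
  let sbar : Y ⟶ W := pullback.lift (qY ≫ c) (𝟙 Y) (hsY c hc)
  have hsbar : Set.range sbar.base = (pullback.fst qC qY).base ⁻¹' {x₀} := hrc ▸ range_section qC qY c hc
  -- the value over the distinguished point
  have hD₀ : ∀ u : U, pullback.fst qC qY (U.ι u) = x₀ → φ u = xp := by
    intro u hu
    obtain ⟨b, hb⟩ : φ₀ u ∈ Set.range (pullback.lift (qB ≫ c) (𝟙 B) (hsB c hc) : B ⟶ pullback qC qB).base := by
      rw [range_section qC qB c hc, hrc]
      show pullback.fst qC qB (φ₀ u) = x₀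
      rw [← Scheme.Hom.comp_apply, hφ₀fst]
      exact hu
    show F (φ₀ u) = xp
    rw [← hb, ← Scheme.Hom.comp_apply, hfix, Scheme.Hom.comp_apply, Subsingleton.elim (qB b) pt]
  haveI : IsProper (h ≫ qX) := by rw [hover]; infer_instance
  haveI : IsProper h := IsProper.of_comp h qX
  have hA : ∀ w, pullback.fst qC qY w = x₀ → ∃ y : W', g y = w ∧ h y = xp := by
    intro w hw
    obtain ⟨b, rfl⟩ : w ∈ Set.range sbar.base := hsbar ▸ hw
    have hAc : IsClosed (g.base '' (h.base ⁻¹' {xp})) := g.isClosedMap _ (hxpc.preimage h.continuous)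
    have hsub : sbar.base '' (O : Set Y) ⊆ g.base '' (h.base ⁻¹' {xp}) := by
      rintro _ ⟨b', hb', rfl⟩
      have hu : sbar b' ∈ U := by
        show pullback.snd qC qY (sbar b') ∈ O
        rw [← Scheme.Hom.comp_apply, pullback.lift_snd]
        exact hb'
      obtain ⟨y, hy⟩ := hgsurj (sbar b')
      refine ⟨y, ?_, hy⟩
      exact (hval y ⟨_, hu⟩ hy).trans (hD₀ ⟨_, hu⟩ (by
        have : sbar b' ∈ Set.range sbar.base := ⟨b', rfl⟩
        rw [hsbar] at this
        exact this))
    have hOne : (O : Set Y).Nonempty := ⟨_, genericPoint S.toScheme, rfl⟩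
    have hdense : Dense (O : Set Y) := O.2.dense hOne
    obtain ⟨y, hy, hyg⟩ := closure_minimal hsub hAc
      (map_mem_closure sbar.continuous (hdense b) fun b' hb' => ⟨b', hb', rfl⟩)
    exact ⟨y, hyg, hy⟩
  have hconst : ∀ y : W', pullback.fst qC qY (g y) = x₀ → h y = xp := by
    intro y hy
    by_cases hyU : g y ∈ U
    · exact (hval y ⟨_, hyU⟩ rfl).trans (hD₀ ⟨_, hyU⟩ hy)
    obtain ⟨b, hb⟩ : g y ∈ Set.range sbar.base := hsbar ▸ hy
    have hbO : b ∉ O := fun hbO => hyU (by
      rw [← hb]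
      show pullback.snd qC qY (sbar b) ∈ O
      rw [← Scheme.Hom.comp_apply, pullback.lift_snd]
      exact hbO)
    have hbc : IsClosed ({b} : Set Y) :=
      H6CurveCorr.isClosed_singleton hYd.le (genericPoint_specializes) fun he => hbO (he ▸
        (genericPoint_specializes (j (genericPoint S.toScheme))).mem_open O.2 ⟨_, rfl⟩)
    haveI : IsClosedImmersion sbar :=
      haveI : IsClosedImmersion (sbar ≫ pullback.snd qC qY) := by rw [pullback.lift_snd]; infer_instance
      IsClosedImmersion.of_comp sbar (pullback.snd qC qY)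
    have hwc : IsClosed ({g y} : Set W) := by
      rw [← hb, ← Set.image_singleton]
      exact sbar.isClosedEmbedding.isClosedMap _ hbc
    rcases const_or_line hseq sW qX h hover (g y) hwc xp hxpc (hA _ hy) with h1 | ⟨cl, h1, h2, h3⟩
    · exact h1 y rfl
    · exact absurd ⟨cl, h1, h2, h3⟩ hline
  -- rigidity
  obtain ⟨_, ⟨V : X.Opens, hV, rfl⟩, hxV, -⟩ :=
    X.isBasis_affineOpens.exists_subset_of_mem_open (Set.mem_univ xp) isOpen_univ
  haveI : IsProper (pullback.fst qC qY) := inferInstance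
  let q : W' ⟶ C := g ≫ pullback.fst qC qY
  let C₀ : C.Opens := ⟨(q.base '' ((h ⁻¹ᵁ V : W'.Opens) : Set W')ᶜ)ᶜ,
    (q.isClosedMap _ (h ⁻¹ᵁ V).2.isClosed_compl).isOpen_compl⟩
  have hx₀C : x₀ ∈ C₀ := fun ⟨y, hy, hyx⟩ => hy (show h y ∈ V by
    rw [hconst y (by rw [← Scheme.Hom.comp_apply]; exact hyx)]
    exact hxV)
  obtain ⟨bB, hbB, hbBc⟩ : ∃ bB, bB ∈ (Set.univ : Set B) ∧ bB ∈ closedPoints B := by
    haveI : JacobsonSpace ↥B := LocallyOfFiniteType.jacobsonSpace qB
    exact nonempty_inter_closedPoints ⟨genericPoint B, trivial⟩ isClosed_univ.isLocallyClosed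
  let b₀ : Spec (CommRingCat.of k) ⟶ B := pointOfClosedPoint qB bB hbBc
  let G : C ⟶ X := pullback.lift (𝟙 C) (qC ≫ b₀) (by
    rw [Category.id_comp, Category.assoc, pointOfClosedPoint_comp, Category.comp_id]) ≫ F
  have hG : G ≫ qX = qC := by
    rw [Category.assoc, hF, pullback.lift_fst_assoc, Category.id_comp]
  refine hvar ⟨G, hG, ?_⟩
  haveI : IsIntegral (pullback qC qB) := S1582.result k C B qC qB
  haveI : LocallyOfFiniteType (F ≫ qX) := by rw [hF]; infer_instance
  have hS₀ : ((pullback.fst qC qB ⁻¹ᵁ C₀ : (pullback qC qB).Opens) : Set ↑(pullback qC qB)).Nonempty := by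
    refine ⟨(pullback.lift (qB ≫ c) (𝟙 B) (hsB c hc) : B ⟶ pullback qC qB) (genericPoint B), ?_⟩
    show pullback.fst qC qB _ ∈ C₀
    rw [← Scheme.Hom.comp_apply, pullback.lift_fst, Scheme.Hom.comp_apply, Subsingleton.elim (qB _) pt]
    exact hx₀C
  refine ext_of_apply_eq qX _ (pullback.fst qC qB ⁻¹ᵁ C₀).2.isLocallyClosed
    ((pullback.fst qC qB ⁻¹ᵁ C₀).2.dense hS₀) ?_ (by rw [hF, Category.assoc, hG])
  intro x hx hxc
  let a : Spec (CommRingCat.of k) ⟶ C := pointOfClosedPoint (pullback.fst qC qB ≫ qC) x hxc ≫ pullback.fst qC qB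
  have ha : a ≫ qC = 𝟙 _ := by rw [Category.assoc, pointOfClosedPoint_comp]
  set cc := pullback.fst qC qB x with hccdef
  have hapt : a pt = cc := by rw [Scheme.Hom.comp_apply, pointOfClosedPoint_apply]
  have hcc : IsClosed ({cc} : Set C) := by rw [← hapt]; exact ((pointEquivClosedPoint qC) ⟨a, ha⟩).2
  have hra : Set.range a.base = {cc} := Set.eq_singleton_iff_unique_mem.2 ⟨⟨pt, hapt⟩, by
    rintro _ ⟨t, rfl⟩
    rw [Subsingleton.elim t pt, hapt]⟩
  let Z : Set X := h.base '' (q.base ⁻¹' {cc})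
  have hZ : IsClosed Z := h.isClosedMap _ (hcc.preimage q.continuous)
  have hZV : Z ⊆ (V : Set X) := by
    rintro _ ⟨y, hy, rfl⟩
    by_contra hn
    exact hx ⟨y, hn, hy⟩
  obtain ⟨σ, hσ, hσφ⟩ := hlift a ha
  let sa : B ⟶ pullback qC qB := pullback.lift (qB ≫ a) (𝟙 B) (hsB a ha)
  let zc := φ (σ (genericPoint S.toScheme))
  have hzc : zc ∈ Z := by
    obtain ⟨y, hy⟩ := hgsurj (U.ι (σ (genericPoint S.toScheme)))
    refine ⟨y, ?_, hval y _ hy⟩
    show q y = cc
    rw [Scheme.Hom.comp_apply, hy, ← Scheme.Hom.comp_apply, ← Scheme.Hom.comp_apply, ← Category.assoc, hσ,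
      Category.assoc, pullback.lift_fst, Scheme.Hom.comp_apply, Scheme.Hom.comp_apply,
      Subsingleton.elim (qY _) pt, hapt]
  have hzcc : IsClosed ({zc} : Set X) := LeffEtLib.isClosed_singleton_of_subset qX hV hZ hZV hzc
  have hsa : ∀ b : B, F (sa b) = zc := by
    intro b
    have h1 : F (sa (S.ι (genericPoint S.toScheme))) = zc := by
      show _ = F (φ₀ (σ (genericPoint S.toScheme)))
      rw [← Scheme.Hom.comp_apply σ φ₀, hσφ]
      rfl
    have h2 : S.ι (genericPoint S.toScheme) ⤳ b := by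
      rw [genericPoint_eq_of_isOpenImmersion]
      exact genericPoint_specializes b
    have h3 := (h2.map sa.continuous).map F.continuous
    rw [h1] at h3
    exact hzcc.closure_eq.le (specializes_iff_mem_closure.1 h3)
  have hmem : ∀ x' : ↑(pullback qC qB), pullback.fst qC qB x' = cc → F x' = zc := by
    intro x' hx'
    obtain ⟨b, rfl⟩ : x' ∈ Set.range sa.base := by
      rw [range_section qC qB a ha, hra]; exact hx'
    exact hsa b
  rw [hmem x rfl]
  refine (?_ : F ((pullback.lift (𝟙 C) (qC ≫ b₀) _ : C ⟶ pullback qC qB) cc) = zc).symm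
  refine hmem _ ?_
  rw [← Scheme.Hom.comp_apply, pullback.lift_fst]
  rfl

end Groth.Agent.RatCurveBlowLib
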