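import Groth.Agent.RatCurveBlowLib.Main
import Groth.Agent.CastLib.CurveRes
import Groth.Agent.PicProjLib.Chart
import Groth.Agent.S10829

/-!
# The fibres of sequences of point blow-ups are connected unions of projective lines
-/

set_option autoImplicit false
set_option backward.isDefEq.respectTransparency false
set_option linter.style.haveILetI false
set_option maxHeartbeats 1000000

universe u

open CategoryTheory CategoryTheory.Limits AlgebraicGeometry TopologicalSpace
open Groth.Agent.TwistShriek Groth.Agent.TwistShriek.PointBlow Groth.Agent.SurfPtBlow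

noncomputable section

namespace Groth.Agent.RatCurveBlowLib

/-- A closed preconnected set has preconnected preimage along a closed surjection with connected fibres. -/
theorem isPreconnected_preimage {α β : Type*} [TopologicalSpace α] [TopologicalSpace β] {f : α → β}
    (hf : IsClosedMap f) (hs : Function.Surjective f) (hfib : ∀ b, IsPreconnected (f ⁻¹' {b}))
    {T : Set β} (hT : IsClosed T) (hTc : IsPreconnected T) (hcont : Continuous f) :
    IsPreconnected (f ⁻¹' T) := by
  rw [isPreconnected_iff_subset_of_fully_disjoint_closed (hT.preimage hcont)]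
  intro A B hA hB hAB hdis
  have hA' := hf A hA
  have hB' := hf B hB
  have hside : ∀ t ∈ T, f ⁻¹' {t} ⊆ A ∨ f ⁻¹' {t} ⊆ B := fun t ht =>
    (isPreconnected_iff_subset_of_disjoint_closed.1 (hfib t)) A B hA hB
      (fun x hx => hAB (show f x ∈ T from (show f x = t from hx) ▸ ht))
      (by rw [hdis.inter_eq, Set.inter_empty])
  have hcov : T ⊆ f '' A ∪ f '' B := fun t ht => by
    obtain ⟨x, rfl⟩ := hs t
    exact (hAB ht).imp (fun h => ⟨x, h, rfl⟩) (fun h => ⟨x, h, rfl⟩)
  have hdis' : T ∩ (f '' A ∩ f '' B) = ∅ := by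
    refine Set.eq_empty_iff_forall_notMem.2 ?_
    rintro t ⟨ht, ⟨a, ha, hat⟩, ⟨b, hb, hbt⟩⟩
    rcases hside t ht with h | h
    · exact Set.disjoint_left.1 hdis (h hbt) hb
    · exact Set.disjoint_left.1 hdis ha (h hat)
  rcases isPreconnected_iff_subset_of_disjoint_closed.1 hTc _ _ hA' hB' hcov hdis' with h | h
  · left
    intro x hx
    obtain ⟨a, ha, hax⟩ := h hx
    rcases hside _ hx with h' | h'
    · exact h' rfl
    · exact absurd (h' hax) (Set.disjoint_left.1 hdis ha)
  · right
    intro x hx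
    obtain ⟨a, ha, hax⟩ := h hx
    rcases hside _ hx with h' | h'
    · exact absurd (h' hax) (fun hb => Set.disjoint_left.1 hdis hb ha)
    · exact h' rfl

variable (k : Type u) [Field k] [IsAlgClosed k]

local notation "ℙ¹" => CohB1.ProjSpace 1 k

/-- A nonconstant line lifts to the blow-up of a point. -/
theorem exists_lift_line {Y Z : Scheme.{u}} {b : Y ⟶ Z} {z : Z} {hz : IsClosed ({z} : Set Z)}
    (hb : BlowUp.IsBlowUp b (pointIdeal hz)) (c : ℙ¹ ⟶ Z) (hc : ¬ Set.range c.base ⊆ {z}) :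
    ∃ c' : ℙ¹ ⟶ Y, c' ≫ b = c := by
  haveI : IsProper (CohB1.ProjSpace.toSpec 1 k) := inferInstance
  haveI : IsNoetherian ℙ¹ :=
    { toIsLocallyNoetherian := LocallyOfFiniteType.isLocallyNoetherian (CohB1.ProjSpace.toSpec 1 k)
      toCompactSpace := QuasiCompact.compactSpace_of_compactSpace (CohB1.ProjSpace.toSpec 1 k) }
  haveI : Smooth (CohB1.ProjSpace.toSpec 1 k) := ProjSmoothLib.smooth_toSpec 1 k
  haveI : Subsingleton ↥(Spec (CommRingCat.of k)) := inferInstanceAs (Subsingleton (PrimeSpectrum k))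
  have hreg : ∀ v : ℙ¹, IsRegularLocalRing ((CohB1.ProjSpace 1 k).presheaf.stalk v) := fun v => by
    refine BlowChartLib.regular_stalk_of_smooth (CohB1.ProjSpace.toSpec 1 k) v ?_
    rw [Subsingleton.elim ((CohB1.ProjSpace.toSpec 1 k) v) (genericPoint (Spec (CommRingCat.of k)))]
    exact inferInstanceAs (IsRegularLocalRing (Spec (CommRingCat.of k)).functionField)
  refine (hb.2 _ c (CastLib.CurveRes.isEffCartier_of_dimLE_one hreg
    (le_of_eq (by exact_mod_cast S10829.result k 1)) _ fun h => hc ?_)).exists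
  rintro _ ⟨v, rfl⟩
  have h1 : v ∈ (((pointIdeal hz).comap c).support : Set (CohB1.ProjSpace 1 k)) := by
    rw [h, Scheme.IdealSheafData.support_bot]; trivial
  rw [Scheme.IdealSheafData.support_comap, TopologicalSpace.Closeds.coe_preimage,
    Scheme.IdealSheafData.coe_support_vanishingIdeal] at h1
  exact h1

variable {k}

/-- Fibres of sequences of point blow-ups are connected, and are points or unions of finitely many lines. -/
theorem fibre_lines {Y W : Scheme.{u}} {g : Y ⟶ W} (hg : PtSeq g) [hW : IsNoetherian W]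
    (sW : W ⟶ Spec (CommRingCat.of k)) [hft : LocallyOfFiniteType sW] (w : W) (hw : IsClosed ({w} : Set W)) :
    _root_.IsPreconnected (g.base ⁻¹' {w}) ∧ ∃ S : Set (ℙ¹ ⟶ Y), S.Finite ∧
      (∀ c ∈ S, c ≫ g ≫ sW = CohB1.ProjSpace.toSpec 1 k ∧ Set.range c.base ⊆ g.base ⁻¹' {w} ∧
        ¬ ∃ y : Y, Set.range c.base ⊆ {y}) ∧
      ((g.base ⁻¹' {w}).Subsingleton ∨ g.base ⁻¹' {w} ⊆ ⋃ c ∈ S, Set.range c.base) := by
  classical
  revert hW hft sW
  induction hg with
  | refl W =>
    intro hW sW hft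
    have h : (𝟙 W : W ⟶ W).base ⁻¹' {w} = {w} := rfl
    exact ⟨h ▸ isPreconnected_singleton, ∅, Set.finite_empty, fun c hc => absurd hc (Set.notMem_empty c),
      Or.inl (h ▸ Set.subsingleton_singleton)⟩
  | @step Y Z W b r z hz hreg hd hb hr ih =>
    intro hW sW hft
    obtain ⟨hN, hP⟩ := hr.isNoetherian
    haveI := hN
    haveI := hP
    haveI := PointBlow.isProper hb
    obtain ⟨hconn, S, hSfin, hS, hcov⟩ := ih w hw sW
    obtain ⟨P⟩ := exists_pointParams hz hreg hd
    obtain ⟨κ, hκ, e, -⟩ := exists_P1 hb P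
    have hjE : Set.range (jE b hz).base = b.base ⁻¹' {z} := by
      refine (Scheme.IdealSheafData.range_subschemeι _).trans ?_
      rw [Scheme.IdealSheafData.support_comap, TopologicalSpace.Closeds.coe_preimage,
        Scheme.IdealSheafData.coe_support_vanishingIdeal]
      rfl
    let q : CohB1.ProjSpace 1 κ ⟶ Spec (CommRingCat.of k) := e.hom ≫ jE b hz ≫ b ≫ r ≫ sW
    haveI : LocallyOfFiniteType q := inferInstance
    obtain ⟨θ, hθ, hθq⟩ := exists_P1_base k κ q
    haveI := hθ
    let E₀ : ℙ¹ ⟶ Y := θ ≫ e.hom ≫ jE b hz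
    have hE₀ : Set.range E₀.base = b.base ⁻¹' {z} := by
      rw [← hjE]
      refine Set.Subset.antisymm ?_ ?_
      · rintro _ ⟨v, rfl⟩
        exact ⟨(θ ≫ e.hom) v, by simp [E₀]⟩
      · rintro _ ⟨v, rfl⟩
        obtain ⟨v', rfl⟩ := (θ ≫ e.hom).surjective v
        exact ⟨v', by simp [E₀]⟩
    have hE₀k : E₀ ≫ (b ≫ r) ≫ sW = CohB1.ProjSpace.toSpec 1 k := by
      simp only [E₀, Category.assoc]
      exact hθq
    have hinj : ∀ y y' : Y, b y ≠ z → b y = b y' → y = y' := fun y y' hy hyy => by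
      let C : Z.Opens := ⟨{z}ᶜ, hz.isOpen_compl⟩
      haveI : IsIso (b ∣_ C) := isIso_restrict_compl hb C fun h => h rfl
      exact congrArg Subtype.val ((b ∣_ C).homeomorph.injective (a₁ := ⟨y, hy⟩)
        (a₂ := ⟨y', show b y' ∈ C from hyy ▸ hy⟩) (Subtype.ext (by
          rw [Scheme.Hom.homeomorph_apply, Scheme.Hom.homeomorph_apply, morphismRestrict_base]
          exact hyy)))
    have hfib : ∀ t : Z, _root_.IsPreconnected (b.base ⁻¹' {t}) := fun t => by
      by_cases ht : t = z
      · rw [ht, ← hE₀]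
        exact isPreconnected_range E₀.continuous
      · exact Set.Subsingleton.isPreconnected fun y hy y' hy' =>
          hinj y y' (fun h => ht ((show b y = t from hy).symm.trans h)) (Eq.trans hy (Eq.symm hy'))
    have hw' : IsClosed (r.base ⁻¹' {w}) := hw.preimage r.continuous
    have hpre : (b ≫ r).base ⁻¹' {w} = b.base ⁻¹' (r.base ⁻¹' {w}) := rfl
    have hlift : ∀ c ∈ S, ∃ c' : ℙ¹ ⟶ Y, c' ≫ b = c := fun c hc =>
      exists_lift_line k hb c fun h => (hS c hc).2.2 ⟨z, h⟩
    let L : (ℙ¹ ⟶ Z) → (ℙ¹ ⟶ Y) := fun c => if h : c ∈ S then (hlift c h).choose else E₀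
    have hL : ∀ c ∈ S, L c ≫ b = c := fun c hc => by simp only [L, dif_pos hc]; exact (hlift c hc).choose_spec
    refine ⟨hpre ▸ isPreconnected_preimage b.isClosedMap (surjective_blowUp hb hreg hd) hfib hw' hconn b.continuous,
      L '' S ∪ (if r z = w then {E₀} else ∅), ?_, ?_, ?_⟩
    · refine (hSfin.image L).union ?_
      split_ifs
      · exact Set.finite_singleton _
      · exact Set.finite_empty
    · rintro c' (⟨c, hc, rfl⟩ | hc)
      · obtain ⟨h1, h2, h3⟩ := hS c hc
        refine ⟨by rw [Category.assoc, reassoc_of% (hL c hc), h1], ?_, ?_⟩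
        · rintro _ ⟨v, rfl⟩
          have h := h2 ⟨v, rfl⟩
          rw [← hL c hc] at h
          exact h
        · rintro ⟨y, hy⟩
          refine h3 ⟨b y, ?_⟩
          rintro _ ⟨v, rfl⟩
          rw [← hL c hc]
          exact congrArg b.base (hy ⟨v, rfl⟩)
      · split_ifs at hc with hrz
        · rw [Set.mem_singleton_iff] at hc
          subst hc
          refine ⟨hE₀k, ?_, ?_⟩
          · rw [hE₀]
            intro y hy
            show r (b y) = w
            rw [show b y = z from hy, hrz]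
          · rintro ⟨y, hy⟩
            haveI : IsClosedImmersion E₀ := inferInstance
            have hsub : Subsingleton (CohB1.ProjSpace 1 k) :=
              ⟨fun a a' => E₀.isClosedEmbedding.injective ((hy ⟨a, rfl⟩).trans (hy ⟨a', rfl⟩).symm)⟩
            have h1 : topologicalKrullDim (CohB1.ProjSpace 1 k) = 1 := by exact_mod_cast S10829.result k 1
            have h0 : topologicalKrullDim (CohB1.ProjSpace 1 k) ≤ 0 := by
              rw [ASp.topologicalKrullDim_eq_krullDim]
              exact Order.krullDim_nonpos_iff_forall_isMax.2 fun a a' _ => (Subsingleton.elim a' a).le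
            rw [h1] at h0
            exact absurd h0 (by norm_num)
        · exact absurd hc (Set.notMem_empty _)
    · by_cases hrz : r z = w
      · right
        intro y hy
        by_cases hyz : b y = z
        · obtain ⟨v, hv⟩ : y ∈ Set.range E₀.base := hE₀ ▸ hyz
          exact Set.mem_biUnion (Or.inr (by rw [if_pos hrz]; rfl)) ⟨v, hv⟩
        · rcases hcov with h | h
          · exact absurd (h (show r (b y) ∈ ({w} : Set W) from hy) (show r z ∈ ({w} : Set W) from hrz)) hyz
          · obtain ⟨c, hc, v, hv⟩ := Set.mem_iUnion₂.1 (h (show b y ∈ r.base ⁻¹' {w} from hy))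
            refine Set.mem_biUnion (Or.inl (Set.mem_image_of_mem L hc)) ⟨v, ?_⟩
            refine (hinj y _ hyz ?_).symm
            rw [← hv]
            exact (congrArg (fun m : ℙ¹ ⟶ Z => m.base v) (hL c hc)).symm
      · have hne : ∀ y ∈ (b ≫ r).base ⁻¹' {w}, b y ≠ z := fun y hy h => hrz ((congrArg r.base h).symm.trans hy)
        rcases hcov with h | h
        · exact Or.inl fun y hy y' hy' => hinj y y' (hne y hy) (h hy hy')
        · right
          intro y hy
          obtain ⟨c, hc, v, hv⟩ := Set.mem_iUnion₂.1 (h (show b y ∈ r.base ⁻¹' {w} from hy))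
          refine Set.mem_biUnion (Or.inl (Set.mem_image_of_mem L hc)) ⟨v, ?_⟩
          refine (hinj y _ (hne y hy) ?_).symm
          rw [← hv]
          exact (congrArg (fun m : ℙ¹ ⟶ Z => m.base v) (hL c hc)).symm

/-- A morphism from a sequence of point blow-ups is constant on a fibre through which it takes the value `p`,
unless some projective line passes through `p`. -/
theorem const_or_line {Y W X : Scheme.{u}} {g : Y ⟶ W} (hg : PtSeq g) [IsNoetherian W]
    (sW : W ⟶ Spec (CommRingCat.of k)) [LocallyOfFiniteType sW] (sX : X ⟶ Spec (CommRingCat.of k)) [IsSeparated sX]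
    (Ψ : Y ⟶ X) (hΨ : Ψ ≫ sX = g ≫ sW) (w : W) (hw : IsClosed ({w} : Set W))
    (p : X) (hp : IsClosed ({p} : Set X)) (hy : ∃ y : Y, g y = w ∧ Ψ y = p) :
    (∀ y : Y, g y = w → Ψ y = p) ∨ ∃ c : ℙ¹ ⟶ X, c ≫ sX = CohB1.ProjSpace.toSpec 1 k ∧
      p ∈ Set.range c.base ∧ ¬ ∃ x : X, Set.range c.base ⊆ {x} := by
  obtain ⟨y₀, hy₀, hy₀p⟩ := hy
  obtain ⟨hconn, S, hSfin, hS, hcov⟩ := fibre_lines hg sW w hw
  by_cases hline : ∃ c ∈ S, p ∈ Set.range (c ≫ Ψ).base ∧ ¬ ∃ x : X, Set.range (c ≫ Ψ).base ⊆ {x}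
  · obtain ⟨c, hc, h1, h2⟩ := hline
    exact Or.inr ⟨c ≫ Ψ, by rw [Category.assoc, hΨ]; exact (hS c hc).1, h1, h2⟩
  left
  rcases hcov with h | h
  · exact fun y hy => (congrArg Ψ.base (h hy hy₀)).trans hy₀p
  haveI : IsProper (CohB1.ProjSpace.toSpec 1 k) := inferInstance
  let S' : Set (ℙ¹ ⟶ Y) := {c ∈ S | p ∉ Set.range (c ≫ Ψ).base}
  let R : Set X := ⋃ c ∈ S', Set.range (c ≫ Ψ).base
  have hR : IsClosed R := by
    refine (hSfin.subset fun c hc => hc.1).isClosed_biUnion fun c hc => ?_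
    haveI : IsProper ((c ≫ Ψ) ≫ sX) := by
      rw [Category.assoc, hΨ, (hS c hc.1).1]; infer_instance
    haveI : IsProper (c ≫ Ψ) := IsProper.of_comp (c ≫ Ψ) sX
    exact (c ≫ Ψ).isClosedMap.isClosed_range
  have hpR : p ∉ R := fun h => by
    obtain ⟨c, hc, hpc⟩ := Set.mem_iUnion₂.1 h
    exact hc.2 hpc
  have himg : Ψ.base '' (g.base ⁻¹' {w}) ⊆ {p} ∪ R := by
    rintro _ ⟨y, hy, rfl⟩
    obtain ⟨c, hc, v, rfl⟩ := Set.mem_iUnion₂.1 (h hy)
    by_cases hpc : p ∈ Set.range (c ≫ Ψ).base
    · left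
      obtain ⟨x, hx⟩ := not_not.1 fun hn => hline ⟨c, hc, hpc, hn⟩
      exact (hx ⟨v, rfl⟩).trans (hx hpc).symm
    · exact Or.inr (Set.mem_biUnion (show c ∈ S' from ⟨hc, hpc⟩) ⟨v, rfl⟩)
  have hsplit := (isPreconnected_iff_subset_of_disjoint_closed.1 (hconn.image _ Ψ.continuous.continuousOn)) _ _
    hp hR himg (Set.eq_empty_iff_forall_notMem.2 fun x hx => hpR (by
      have hxp : x = p := hx.2.1
      exact hxp ▸ hx.2.2))
  rcases hsplit with h1 | h1
  · exact fun y hy => h1 ⟨y, hy, rfl⟩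
  · exact absurd (h1 ⟨y₀, hy₀, hy₀p⟩) hpR

end Groth.Agent.RatCurveBlowLib
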