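import Groth.Agent.SurfPtBlow.Dominate
import Groth.Agent.SurfPtBlow.PointPush
import Groth.Agent.GenSeesawLib.TwistBC
import Groth.Agent.HypSurfLib.Coh
import Groth.Agent.RelPurLib.P1Charts
import Mathlib.RingTheory.Jacobson.Ring

/-!
# Rational curves from rational maps of regular surfaces that do not extend
-/

set_option autoImplicit false
set_option backward.isDefEq.respectTransparency false
set_option linter.style.haveILetI false
set_option maxHeartbeats 1000000

universe u

open CategoryTheory CategoryTheory.Limits AlgebraicGeometry TopologicalSpace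
open Groth.Agent.TwistShriek Groth.Agent.TwistShriek.PointBlow Groth.Agent.SurfPtBlow

noncomputable section

namespace Groth.Agent.RatCurveBlowLib

/-- A morphism to an affine scheme is determined by the global functions. -/
theorem eq_toSpecΓ_toGlobal {P : Scheme.{u}} {A : Type u} [CommRing A] (q : P ⟶ Spec (CommRingCat.of A)) :
    q = P.toSpecΓ ≫ Spec.map (CommRingCat.ofHom (Coh.toGlobal q)) := by
  have h1 : P.toSpecΓ ≫ Spec.map q.appTop = q ≫ (Spec (CommRingCat.of A)).toSpecΓ :=
    (Scheme.toSpecΓ_naturality q).symm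
  rw [← SpecMap_ΓSpecIso_hom] at h1
  conv_lhs => rw [show q = P.toSpecΓ ≫ Spec.map q.appTop ≫ Spec.map (Scheme.ΓSpecIso (CommRingCat.of A)).inv by
    rw [reassoc_of% h1, ← Spec.map_comp, Iso.inv_hom_id, Spec.map_id, Category.comp_id]]
  rw [← Spec.map_comp]
  rfl

variable (k : Type u) [Field k] [IsAlgClosed k]

/-- A projective line over a field of finite type over an algebraically closed field is the projective line
over the base. -/
theorem exists_P1_base (κ : Type u) [Field κ] (q : CohB1.ProjSpace 1 κ ⟶ Spec (CommRingCat.of k))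
    [LocallyOfFiniteType q] :
    ∃ θ : CohB1.ProjSpace 1 k ⟶ CohB1.ProjSpace 1 κ, IsIso θ ∧ θ ≫ q = CohB1.ProjSpace.toSpec 1 k := by
  let P := CohB1.ProjSpace 1 κ
  let p : P ⟶ Spec (CommRingCat.of κ) := CohB1.ProjSpace.toSpec 1 κ
  have hb : Function.Bijective (Coh.toGlobal p) :=
    CurveP1Lib.bijective_toGlobal_of_h0 (HypSurfLib.finrank_H0_projSpace (r := 1) (k := κ))
  let e := RingEquiv.ofBijective _ hb
  let ι : k →+* κ := e.symm.toRingHom.comp (Coh.toGlobal q)
  have hq : q = p ≫ Spec.map (CommRingCat.ofHom ι) := by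
    conv_lhs => rw [eq_toSpecΓ_toGlobal q]
    conv_rhs => rw [eq_toSpecΓ_toGlobal p, Category.assoc, ← Spec.map_comp]
    congr 2
    exact CommRingCat.hom_ext (RingHom.ext fun a => (e.apply_symm_apply _).symm)
  let s : Spec (CommRingCat.of κ) ⟶ P :=
    Spec.map (CommRingCat.ofHom (Polynomial.evalRingHom (0 : κ))) ≫ RelPurLib.chart κ 0
  have hs : s ≫ p = 𝟙 _ := by
    rw [Category.assoc, RelPurLib.chart_toSpec, ← Spec.map_comp]
    convert Spec.map_id (CommRingCat.of κ)
    exact CommRingCat.hom_ext (RingHom.ext fun a => Polynomial.eval_C)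
  have hft : LocallyOfFiniteType (Spec.map (CommRingCat.ofHom ι)) := by
    haveI : LocallyOfFiniteType (s ≫ p) := by rw [hs]; infer_instance
    haveI : LocallyOfFiniteType s := locallyOfFiniteType_of_comp s p
    rw [← Category.id_comp (Spec.map (CommRingCat.ofHom ι)), ← hs, Category.assoc, ← hq]
    infer_instance
  letI : Algebra k κ := ι.toAlgebra
  haveI : Algebra.FiniteType k κ :=
    RingHom.finiteType_algebraMap.1 ((HasRingHomProperty.Spec_iff (P := @LocallyOfFiniteType)).1 hft)
  haveI : Module.Finite k κ := finite_of_finite_type_of_isJacobsonRing k κ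
  have hι : Function.Bijective (algebraMap k κ) := IsAlgClosed.algebraMap_bijective_of_isIntegral
  haveI : IsIso (CommRingCat.ofHom (algebraMap k κ)) := (ConcreteCategory.isIso_iff_bijective _).2 hι
  have hpb := GenSeesawLib.isPullback_bcMap 1 k κ
  haveI : IsIso (GenSeesawLib.bcMap 1 k κ) := hpb.isIso_fst_of_isIso
  refine ⟨inv (GenSeesawLib.bcMap 1 k κ), inferInstance, ?_⟩
  rw [IsIso.inv_comp_eq, hpb.w]
  exact hq

variable {k}

/-- A morphism from a sequence of point blow-ups either descends or is nonconstant on some exceptional line. -/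
theorem desc_or_exists_line {Y W X : Scheme.{u}} {g : Y ⟶ W} (hg : PtSeq g) [hW : IsNoetherian W]
    (sW : W ⟶ Spec (CommRingCat.of k)) [hft : LocallyOfFiniteType sW] (sX : X ⟶ Spec (CommRingCat.of k))
    (Ψ : Y ⟶ X) (hΨ : Ψ ≫ sX = g ≫ sW) :
    (∃ ψ : W ⟶ X, g ≫ ψ = Ψ ∧ ψ ≫ sX = sW) ∨
      ∃ c : CohB1.ProjSpace 1 k ⟶ X, c ≫ sX = CohB1.ProjSpace.toSpec 1 k ∧
        ¬ ∃ x : X, Set.range c.base ⊆ {x} := by
  haveI : Subsingleton ↥(Spec (CommRingCat.of k)) := inferInstanceAs (Subsingleton (PrimeSpectrum k))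
  revert hW hft hΨ Ψ sW
  induction hg with
  | refl W => intro hW sW hft Ψ hΨ; exact Or.inl ⟨Ψ, Category.id_comp _, hΨ.trans (Category.id_comp _)⟩
  | @step Y Z W b r z hz hreg hd hb hr ih =>
    intro hW sW hft Ψ hΨ
    obtain ⟨hN, hP⟩ := hr.isNoetherian
    haveI := hN
    haveI := hP
    haveI := PointBlow.isProper hb
    by_cases hc : ∃ y : X, ∀ w : Y, b w = z → Ψ w = y
    · obtain ⟨y, hy⟩ := hc
      obtain ⟨Ψ', hΨ', -⟩ := existsUnique_desc hb hreg hd Ψ y hy
      have hover : Ψ' ≫ sX = r ≫ sW := by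
        refine (existsUnique_desc hb hreg hd ((b ≫ r) ≫ sW) default
          (fun w _ => Subsingleton.elim _ _)).unique ?_ (Category.assoc _ _ _).symm
        show b ≫ Ψ' ≫ sX = _
        rw [reassoc_of% (show b ≫ Ψ' = Ψ from hΨ'), hΨ]
      rcases ih sW Ψ' hover with ⟨ψ, h1, h2⟩ | h
      · exact Or.inl ⟨ψ, by rw [Category.assoc, h1]; exact hΨ', h2⟩
      · exact Or.inr h
    · right
      obtain ⟨P⟩ := exists_pointParams hz hreg hd
      obtain ⟨κ, hκ, e, -⟩ := exists_P1 hb P
      let q : CohB1.ProjSpace 1 κ ⟶ Spec (CommRingCat.of k) := e.hom ≫ jE b hz ≫ b ≫ r ≫ sW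
      haveI : LocallyOfFiniteType q := inferInstance
      obtain ⟨θ, hθ, hθq⟩ := exists_P1_base k κ q
      refine ⟨θ ≫ e.hom ≫ jE b hz ≫ Ψ, ?_, ?_⟩
      · simp only [Category.assoc, hΨ]
        exact hθq
      · rintro ⟨x, hx⟩
        refine hc ⟨x, fun w hw => ?_⟩
        have hw' : w ∈ (((pointIdeal hz).comap b).support : Set Y) := by
          rw [Scheme.IdealSheafData.support_comap, TopologicalSpace.Closeds.coe_preimage,
            Scheme.IdealSheafData.coe_support_vanishingIdeal]
          exact hw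
        rw [← Scheme.IdealSheafData.range_subschemeι] at hw'
        obtain ⟨v, rfl⟩ := hw'
        haveI := hθ
        obtain ⟨v', rfl⟩ := (θ ≫ e.hom).surjective v
        exact hx ⟨v', by simp⟩

/-- A rational map from a regular surface to a proper scheme which does not extend yields a rational curve. -/
theorem exists_line_of_not_extends {W X : Scheme.{u}} [IsIntegral W] [IsNoetherian W]
    (hreg : ∀ w : W, IsRegularLocalRing (W.presheaf.stalk w)) (hdim : topologicalKrullDim W ≤ 2)
    (sW : W ⟶ Spec (CommRingCat.of k)) [LocallyOfFiniteType sW]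
    (sX : X ⟶ Spec (CommRingCat.of k)) [IsProper sX]
    (U : W.Opens) (hU : (U : Set W).Nonempty) (φ : (U : Scheme.{u}) ⟶ X) (hφ : φ ≫ sX = U.ι ≫ sW)
    (hne : ¬ ∃ ψ : W ⟶ X, U.ι ≫ ψ = φ) :
    ∃ c : CohB1.ProjSpace 1 k ⟶ X, c ≫ sX = CohB1.ProjSpace.toSpec 1 k ∧
      ¬ ∃ x : X, Set.range c.base ⊆ {x} := by
  obtain ⟨u, hu⟩ := hU
  have hη : genericPoint W ∈ U := (genericPoint_specializes u).mem_open U.2 hu
  let zK : Spec W.functionField ⟶ X := U.fromSpecStalkOfMem (genericPoint W) hη ≫ φ
  obtain ⟨W', hint, g, hg, h, hseq, hover, hgen⟩ := exists_ptSeq_extend hreg hdim sW sX zK (by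
    rw [Category.assoc, hφ, Scheme.Opens.fromSpecStalkOfMem_ι_assoc])
  rcases desc_or_exists_line hseq sW sX h hover with ⟨ψ, hψ, hψs⟩ | hc
  · refine absurd ⟨ψ, ?_⟩ hne
    let τ : Spec W'.functionField ⟶ (U : Scheme.{u}) :=
      Spec.map (funMap g hg) ≫ U.fromSpecStalkOfMem (genericPoint W) hη
    have hτ : τ ≫ U.ι = W'.fromSpecStalk (genericPoint W') ≫ g := by
      rw [Category.assoc, Scheme.Opens.fromSpecStalkOfMem_ι, fromSpecStalk_funMap]
    haveI : IsDominant τ := ⟨fun z => by
      refine closure_mono (Set.singleton_subset_iff.2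
        (Set.mem_range_self (f := τ) (IsLocalRing.closedPoint W'.functionField))) (specializes_iff_mem_closure.1 ?_)
      refine U.ι.isOpenEmbedding.isInducing.specializes_iff.1 ?_
      rw [← Scheme.Hom.comp_apply, hτ, Scheme.Hom.comp_apply, Scheme.fromSpecStalk_closedPoint, hg]
      exact genericPoint_specializes _⟩
    refine ext_of_isDominant_of_isSeparated sX ?_ τ ?_
    · rw [Category.assoc, hψs, hφ]
    · rw [reassoc_of% hτ, hψ, hgen, Category.assoc]
  · exact hc

end Groth.Agent.RatCurveBlowLib
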